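import Groth.Agent.BGStackLib.Functor
import Groth.Agent.QuotTransLib.Stack
import Groth.Agent.StkTopLib.Glue

/-!
# Classifying stacks and neutral gerbes
-/

set_option autoImplicit false
set_option linter.all false
set_option backward.isDefEq.respectTransparency false
set_option backward.isDefEq.respectTransparency.types false

universe u

open CategoryTheory CategoryTheory.Limits MonoidalCategory CartesianMonoidalCategory AlgebraicGeometry
open Opposite MonObj GrpObj FibCat FibLib AlgStLib Gerb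
open CategoryTheory.Functor (Fiber IsStronglyCartesian)

noncomputable section

namespace BGStackLib

variable {S : Scheme.{u}} {G : Over S} [GrpObj G] {𝒳 : AlgSt.Cat S} {x : overCat (Over.mk (𝟙 S)) ⥤ᵇ 𝒳}
  (r : Gerb.AutRep x (Gerb.ptsGrp (Over.mk (𝟙 S)) G)) (h : Stk.IsStack (AlgSp.J S) 𝒳)

/-- Local isomorphisms with the global object make the functor an equivalence. -/
theorem isEquivOver_twFun [IsAffineHom G.hom]
    (hloc : ∀ (T : Over S) (y : 𝒳.obj), 𝒳.p.obj y = T → ∃ R ∈ AlgSp.J S T, ∀ ⦃V : Over S⦄ (f : V ⟶ T),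
      R.arrows f → ∃ g : x.obj (o V) ⟶ y, 𝒳.p.IsHomLift f g) :
    IsEquivOver (twFun r h) := by
  haveI := h.1
  rw [StkTopLib.isEquivOver_iff_locEssSurj QuotTransLib.isStack_quotSt h]
  intro y
  obtain ⟨R, hR, hR'⟩ := hloc _ y rfl
  refine ⟨R, hR, fun V f hf => ?_⟩
  obtain ⟨g, hg⟩ := hR' f hf
  let qm := AlgSt.quotMap Scheme.fppfPrecoverage G (AlgSt.trivAction G)
  let a : (AlgSt.ofSch (𝟙_ (Over S))).obj := ⟨V, ⟨toUnit V⟩⟩
  let A := qm.obj a
  have hπ : unitPt (G := G) V ≫ A.π = 𝟙 V := lift_snd _ _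
  haveI hs : 𝒳.p.IsHomLift (𝟙 V) ((tw r h A).σ (unitPt (G := G) V)) := hπ ▸ (tw r h A).σ_lift _
  haveI : IsIso ((tw r h A).σ (unitPt (G := G) V)) := FibLib.isIso_of_isHomLift 𝒳.p (𝟙 V) _
  haveI : 𝒳.p.IsHomLift (𝟙 V) (inv ((tw r h A).σ (unitPt (G := G) V))) := inferInstance
  exact ⟨A, inv ((tw r h A).σ (unitPt (G := G) V)) ≫ g,
    GerbeLib.isHomLift_id_comp 𝒳.p _ _ _ inferInstance hg⟩

/-- A gerbe over the base with a section is locally the section. -/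
theorem exists_local_of_gerbe [IsFibGrpd 𝒳.p] {π : 𝒳 ⥤ᵇ overCat (Over.mk (𝟙 S))}
    (hπ : Gerb.IsGerbeOver (AlgSp.J S) π) (T : Over S) (y : 𝒳.obj) (hy : 𝒳.p.obj y = T) :
    ∃ R ∈ AlgSp.J S T, ∀ ⦃V : Over S⦄ (f : V ⟶ T), R.arrows f →
      ∃ g : x.obj (o V) ⟶ y, 𝒳.p.IsHomLift f g := by
  subst hy
  let y' := x.obj (o (𝒳.p.obj y))
  have e : (π.obj y).left = (π.obj y').left :=
    (π.w_obj y).trans ((x.w_obj (o (𝒳.p.obj y))).symm.trans (π.w_obj y').symm)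
  let b : π.obj y ⟶ π.obj y' := Over.homMk (eqToHom e) (Over.OverMorphism.ext (by
    exact (congrArg ((eqToHom e).left ≫ ·) ((Category.comp_id _).symm.trans (Over.w (π.obj y').hom))).trans
      ((Over.w (eqToHom e)).trans ((Category.comp_id _).symm.trans (Over.w (π.obj y).hom)).symm)))
  have hb : (overCat (Over.mk (𝟙 S))).p.IsHomLift (𝟙 (𝒳.p.obj y)) b :=
    IsHomLift.of_fac' _ _ _ (π.w_obj y) ((π.w_obj y').trans (x.w_obj _)) (by
      show eqToHom e = _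
      simp)
  obtain ⟨R, hR, hR'⟩ := hπ.2 y y' b hb
  refine ⟨R, hR, fun V f hf => ?_⟩
  obtain ⟨z, φ, ψ, hφ, hψ, -⟩ := hR' f hf
  obtain ⟨i, hi, -⟩ := GerbeLib.exists_vert 𝒳.p f (x.map (om f)) ψ (x_lift f) hψ
  exact ⟨i.hom ≫ φ, GerbeLib.isHomLift_id_comp 𝒳.p _ _ _ hi hφ⟩

end BGStackLib
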