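import Groth.Agent.BGStackLib.Glue

/-!
# The functor from a classifying stack attached to a global object
-/

set_option autoImplicit false
set_option linter.all false
set_option backward.isDefEq.respectTransparency false
set_option backward.isDefEq.respectTransparency.types false

universe u

open CategoryTheory CategoryTheory.Limits MonoidalCategory CartesianMonoidalCategory AlgebraicGeometry
open Opposite MonObj GrpObj FibCat FibLib AlgStLib Gerb
open CategoryTheory.Functor (Fiber IsStronglyCartesian)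

noncomputable section

namespace BGStackLib

lemma eq_of_lift {P C : Type*} [Category P] [Category C] (p : P ⥤ C) {R T : C} {f g : R ⟶ T} {a b : P}
    (φ : a ⟶ b) (hf : p.IsHomLift f φ) (hg : p.IsHomLift g φ) : f = g := by
  have e1 := @IsHomLift.fac' _ _ _ _ p _ _ _ _ f φ hf
  have e2 := @IsHomLift.fac' _ _ _ _ p _ _ _ _ g φ hg
  simpa [cancel_epi, cancel_mono] using e1.symm.trans e2

variable {S : Scheme.{u}} {G : Over S} [GrpObj G] {𝒳 : AlgSt.Cat S} {x : overCat (Over.mk (𝟙 S)) ⥤ᵇ 𝒳}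
  (r : Gerb.AutRep x (Gerb.ptsGrp (Over.mk (𝟙 S)) G)) (h : Stk.IsStack (AlgSp.J S) 𝒳)

local notation "BGs" => AlgSt.BG Scheme.fppfPrecoverage G

/-- The twisted object of a torsor. -/
def tw (A : (BGs).obj) : Tw r A := (exists_tw r A h).some

/-- The morphism of twisted objects of a morphism of torsors. -/
def twMap {A A' : (BGs).obj} (a : A ⟶ A') : (tw r h A).y ⟶ (tw r h A').y :=
  ((tw r h A).exists_comp (AlgStLib.isPrestack_of_isStack h) (tw r h A') a).choose

lemma twMap_spec {A A' : (BGs).obj} (a : A ⟶ A') : (tw r h A).Comp (tw r h A') a (twMap r h a) :=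
  ((tw r h A).exists_comp (AlgStLib.isPrestack_of_isStack h) (tw r h A') a).choose_spec

lemma twMap_eq {A A' : (BGs).obj} (a : A ⟶ A') (δ : (tw r h A).y ⟶ (tw r h A').y)
    (hδ : (tw r h A).Comp (tw r h A') a δ) : twMap r h a = δ :=
  (tw r h A).comp_unique (AlgStLib.isPrestack_of_isStack h) (tw r h A') a (twMap_spec r h a) hδ

lemma σ_twMap {A A' : (BGs).obj} (a : A ⟶ A') {V : Over S} (p : V ⟶ A.P) :
    (tw r h A).σ p ≫ twMap r h a = (tw r h A').σ (p ≫ a.top) := (twMap_spec r h a).2 p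

/-- The functor from the classifying stack. -/
def twFun : BGs ⥤ᵇ 𝒳 where
  toFunctor :=
    { obj := fun A => (tw r h A).y
      map := fun a => twMap r h a
      map_id := fun A => twMap_eq r h _ _ ⟨IsHomLift.id (tw r h A).y_base, fun {V} p => by
        show _ ≫ 𝟙 _ = (tw r h A).σ (p ≫ 𝟙 _)
        rw [Category.comp_id, Category.comp_id]⟩
      map_comp := fun {A B C} a b => twMap_eq r h _ _ ⟨by
        haveI := (twMap_spec r h a).1
        haveI := (twMap_spec r h b).1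
        show 𝒳.p.IsHomLift (a.base ≫ b.base) _
        infer_instance, fun {V} p => by
        show _ = (tw r h C).σ (p ≫ a.top ≫ b.top)
        rw [← Category.assoc, σ_twMap, σ_twMap, Category.assoc]⟩ }
  w := CategoryTheory.Functor.ext (fun A => (tw r h A).y_base) (fun A B a => by
    haveI := (twMap_spec r h a).1
    exact IsHomLift.fac' 𝒳.p a.base (twMap r h a))

lemma base_of_lift {A B : (BGs).obj} (a : A ⟶ B) {f : A.base ⟶ B.base}
    (hf : 𝒳.p.IsHomLift f (twMap r h a)) : a.base = f := by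
  have e1 := @IsHomLift.fac' _ _ _ _ 𝒳.p _ _ _ _ a.base (twMap r h a) (twMap_spec r h a).1
  have e2 := @IsHomLift.fac' _ _ _ _ 𝒳.p _ _ _ _ f (twMap r h a) hf
  simpa [cancel_epi, cancel_mono] using e1.symm.trans e2

instance faithful_twFun : (twFun r h).toFunctor.Faithful := ⟨fun {A B} a b e => by
  haveI := h.1
  have e' : twMap r h a = twMap r h b := e
  have hb : a.base = b.base := base_of_lift r h a (e'.symm ▸ (twMap_spec r h b).1)
  refine AlgSt.QuotObj.hom_ext hb ((tw r h B).σ_injective ?_ ?_)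
  · rw [a.cart.w, b.cart.w, hb]
  · have := σ_twMap r h a (𝟙 A.P)
    rw [e', σ_twMap r h b, Category.id_comp, Category.id_comp] at this
    exact this.symm⟩

lemma ex_pt {A B : (BGs).obj} (δ : (tw r h A).y ⟶ (tw r h B).y) (b : A.base ⟶ B.base) (t : A.P ⟶ B.P)
    [𝒳.p.IsHomLift b δ] (key : ∀ {V : Over S} (p : V ⟶ A.P), (tw r h A).σ p ≫ δ = (tw r h B).σ (p ≫ t))
    (s : PullbackCone B.π b) : ∃ p : s.pt ⟶ A.P, p ≫ A.π = s.snd ∧ p ≫ t = s.fst := by
  haveI := h.1
  haveI : 𝒳.p.IsStronglyCartesian b δ := FibLib.isStronglyCartesian_of_isFibGrpd (p := 𝒳.p) _ _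
  haveI := (tw r h B).σ_lift s.fst
  let u := IsStronglyCartesian.map 𝒳.p b δ s.condition ((tw r h B).σ s.fst)
  have hu : u ≫ δ = (tw r h B).σ s.fst := IsStronglyCartesian.fac 𝒳.p b δ s.condition _
  obtain ⟨p, hp, hp'⟩ := (tw r h A).exists_pt s.snd u inferInstance
  refine ⟨p, hp, ?_⟩
  have e : (tw r h B).σ (p ≫ t) = (tw r h B).σ s.fst := by rw [← key, hp', hu]
  refine (tw r h B).σ_injective ?_ e
  haveI := (tw r h A).σ_lift p
  haveI := (tw r h B).σ_lift (p ≫ t)
  have h1 : 𝒳.p.IsHomLift ((p ≫ A.π) ≫ b) ((tw r h B).σ (p ≫ t)) := key p ▸ inferInstance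
  have f3 : (p ≫ A.π) ≫ b = (p ≫ t) ≫ B.π := eq_of_lift 𝒳.p _ h1 ((tw r h B).σ_lift (p ≫ t))
  rw [← f3, hp]
  exact s.condition.symm

instance full_twFun : (twFun r h).toFunctor.Full := ⟨fun {A B} δ => by
  haveI := h.1
  let b : A.base ⟶ B.base := eqToHom (tw r h A).y_base.symm ≫ 𝒳.p.map δ ≫ eqToHom (tw r h B).y_base
  have hδ : 𝒳.p.IsHomLift b δ := IsHomLift.of_fac 𝒳.p b δ (tw r h A).y_base (tw r h B).y_base rfl
  haveI := hδ
  let F := tw r h A
  let F' := tw r h B
  haveI : 𝒳.p.IsStronglyCartesian b δ := FibLib.isStronglyCartesian_of_isFibGrpd (p := 𝒳.p) _ _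
  haveI := F.σ_lift (𝟙 A.P)
  obtain ⟨t, htπ, ht⟩ := F'.exists_pt ((𝟙 A.P ≫ A.π) ≫ b) (F.σ (𝟙 A.P) ≫ δ) inferInstance
  rw [Category.id_comp] at htπ
  have key : ∀ {V : Over S} (p : V ⟶ A.P), F.σ p ≫ δ = F'.σ (p ≫ t) := fun {V} p => by
    have e := F.σ_comp p (𝟙 A.P)
    rw [Category.comp_id] at e
    rw [← e, Category.assoc, ← ht, F'.σ_comp]
  have heqv : A.act.act ≫ t = (G ◁ t) ≫ B.act.act := by
    refine F'.σ_injective ?_ ?_
    · rw [Category.assoc, htπ, ← Category.assoc, A.cart.w, Category.assoc, Category.assoc, B.cart.w,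
        whiskerLeft_snd_assoc, htπ]
    · have e1 : A.act.act = smul A (fst G A.P) (snd G A.P) := by rw [smul, lift_fst_snd, Category.id_comp]
      have e2 : (G ◁ t) ≫ B.act.act = smul B (fst G A.P) (snd G A.P ≫ t) := by
        rw [smul, QuotStLib.whisker_eq_lift]
      rw [← key, e1, F.σ_smul, Category.assoc, key, e2, F'.σ_smul]
  have hcart : IsPullback t A.π B.π b := by
    choose pf hpf₁ hpf₂ using fun s : PullbackCone B.π b => ex_pt r h δ b t key s
    refine ⟨⟨htπ⟩, ⟨PullbackCone.IsLimit.mk htπ pf hpf₂ hpf₁ (fun s m hm₁ hm₂ => ?_)⟩⟩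
    have e : m ≫ A.π = pf s ≫ A.π := hm₂.trans (hpf₁ s).symm
    refine F.σ_injective e ?_
    haveI := F.σ_lift m
    haveI : 𝒳.p.IsHomLift (m ≫ A.π) (F.σ (pf s)) := e.symm ▸ F.σ_lift (pf s)
    refine IsStronglyCartesian.ext 𝒳.p b δ (m ≫ A.π) ?_
    rw [key, key, hm₁, hpf₂]
  exact ⟨⟨b, t, heqv, hcart, toUnit_unique _ _⟩, twMap_eq r h _ _ ⟨hδ, key⟩⟩⟩

/-- The unit of a trivial torsor. -/
def unitPt (T : Over S) : T ⟶ G ⊗ T := lift 1 (𝟙 T)

/-- The trivial torsor is sent to the global object. -/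
theorem nonempty_quotMap_iso :
    Nonempty (BasedFunctor.comp (AlgSt.quotMap Scheme.fppfPrecoverage G (AlgSt.trivAction G)) (twFun r h) ≅
      BasedFunctor.comp (AlgSt.toOverCat (Over.mk (𝟙 S))) x) := by
  haveI := h.1
  let qm := AlgSt.quotMap Scheme.fppfPrecoverage G (AlgSt.trivAction G)
  have hπ : ∀ a : (AlgSt.ofSch (𝟙_ (Over S))).obj, unitPt (G := G) a.base ≫ (qm.obj a).π = 𝟙 a.base := fun a =>
    lift_snd _ _
  have ho : ∀ a : (AlgSt.ofSch (𝟙_ (Over S))).obj, (AlgSt.toOverCat (Over.mk (𝟙 S))).obj a = o a.base := fun a =>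
    congrArg Over.mk (Over.OverMorphism.ext ((Category.comp_id _).symm.trans (Over.w a.sec.down)))
  let c : ∀ a : (AlgSt.ofSch (𝟙_ (Over S))).obj,
      x.obj ((AlgSt.toOverCat (Over.mk (𝟙 S))).obj a) ⟶ (tw r h (qm.obj a)).y := fun a =>
    x.map (eqToHom (ho a)) ≫ (tw r h (qm.obj a)).σ (unitPt (G := G) a.base)
  have hc : ∀ a, 𝒳.p.IsHomLift (𝟙 a.base) (c a) := fun a => by
    haveI : 𝒳.p.IsHomLift (𝟙 a.base) ((tw r h (qm.obj a)).σ (unitPt (G := G) a.base)) :=
      hπ a ▸ (tw r h (qm.obj a)).σ_lift _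
    haveI : 𝒳.p.IsHomLift (𝟙 a.base) (x.map (eqToHom (ho a))) := by
      have := FibLib.lift_map x (eqToHom (ho a))
      rwa [show (eqToHom (ho a)).left = 𝟙 a.base from by
        rw [Over.eqToHom_left]; rfl] at this
    infer_instance
  have hi : ∀ a, IsIso (c a) := fun a => @FibLib.isIso_of_isHomLift _ _ _ _ 𝒳.p _ _ _ (𝟙 a.base) _ _ _ (c a) (hc a)
  have hnat : ∀ {a b : (AlgSt.ofSch (𝟙_ (Over S))).obj} (f : a ⟶ b),
      x.map ((AlgSt.toOverCat (Over.mk (𝟙 S))).map f) ≫ c b = c a ≫ twMap r h (qm.map f) := by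
    intro a b f
    have e1 : unitPt (G := G) a.base ≫ (qm.map f).top = f.hom ≫ unitPt (G := G) b.base := by
      show unitPt (G := G) a.base ≫ (G ◁ f.hom) = f.hom ≫ unitPt (G := G) b.base
      rw [unitPt, unitPt, lift_whiskerLeft, comp_lift, MonObj.comp_one, Category.id_comp, Category.comp_id]
    have e2 : (AlgSt.toOverCat (Over.mk (𝟙 S))).map f ≫ eqToHom (ho b) = eqToHom (ho a) ≫ om f.hom := by
      apply Over.OverMorphism.ext
      rw [Over.comp_left, Over.comp_left, Over.eqToHom_left, Over.eqToHom_left]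
      exact (Category.comp_id _).trans (Category.id_comp _).symm
    show _ ≫ x.map (eqToHom (ho b)) ≫ _ = (x.map (eqToHom (ho a)) ≫ _) ≫ _
    rw [Category.assoc, σ_twMap, e1, ← (tw r h (qm.obj b)).σ_comp, ← Category.assoc, ← Category.assoc,
      ← x.toFunctor.map_comp, ← x.toFunctor.map_comp, e2]
  refine ⟨(BasedNatIso.mkNatIso (NatIso.ofComponents (fun a => @asIso _ _ _ _ (c a) (hi a))
    (fun f => hnat f)) (fun a => hc a)).symm⟩

end BGStackLib
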