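import Groth.Agent.BGStackLib.Points

/-!
# Twisting a global object of a stack by a torsor
-/

set_option autoImplicit false
set_option linter.all false
set_option backward.isDefEq.respectTransparency false
set_option backward.isDefEq.respectTransparency.types false

universe u

open CategoryTheory CategoryTheory.Limits MonoidalCategory CartesianMonoidalCategory AlgebraicGeometry
open Opposite MonObj GrpObj FibCat FibLib AlgStLib Gerb
open CategoryTheory.Functor (Fiber IsStronglyCartesian)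

noncomputable section

namespace BGStackLib

variable {S : Scheme.{u}} {G : Over S} [GrpObj G] {X : Over S} {aX : AlgGrp.Action G X}
  {𝒳 : AlgSt.Cat S} {x : overCat (Over.mk (𝟙 S)) ⥤ᵇ 𝒳} (r : Gerb.AutRep x (Gerb.ptsGrp (Over.mk (𝟙 S)) G))

/-- An object twisted by a torsor: the points of the torsor are its frames. -/
structure Tw (A : AlgSt.QuotObj Scheme.fppfPrecoverage G aX) where
  /-- the object -/
  y : 𝒳.obj
  y_base : 𝒳.p.obj y = A.base
  /-- the frame of a point -/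
  σ : ∀ {V : Over S}, (V ⟶ A.P) → (x.obj (o V) ⟶ y)
  σ_lift : ∀ {V : Over S} (p : V ⟶ A.P), 𝒳.p.IsHomLift (p ≫ A.π) (σ p)
  σ_comp : ∀ {V' V : Over S} (m : V' ⟶ V) (p : V ⟶ A.P), x.map (om m) ≫ σ p = σ (m ≫ p)
  σ_smul : ∀ {V : Over S} (g : V ⟶ G) (p : V ⟶ A.P), σ (smul A g p) = ρ r g⁻¹ ≫ σ p

variable (A : AlgSt.QuotObj Scheme.fppfPrecoverage G aX)

section Datum

/-- The chosen point over an arrow of the sieve. -/
def pt (w : (Stk.sieveCat (secSieve A)).obj) : w.obj.left ⟶ A.P := w.property.choose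

lemma pt_π (w : (Stk.sieveCat (secSieve A)).obj) : pt A w ≫ A.π = w.obj.hom := w.property.choose_spec

lemma dm_aux {w' w : (Stk.sieveCat (secSieve A)).obj} (m : w' ⟶ w) :
    (m.hom.left ≫ pt A w) ≫ A.π = pt A w' ≫ A.π := by
  rw [Category.assoc, pt_π, pt_π, Over.w m.hom]

/-- The cocycle. -/
def dm {w' w : (Stk.sieveCat (secSieve A)).obj} (m : w' ⟶ w) : w'.obj.left ⟶ G := diff A (dm_aux A m)

lemma dm_id (w : (Stk.sieveCat (secSieve A)).obj) : dm A (𝟙 w) = 1 :=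
  diff_eq A _ ((one_smul A _).trans (Category.id_comp _).symm)

lemma dm_comp {a b c : (Stk.sieveCat (secSieve A)).obj} (m' : a ⟶ b) (m : b ⟶ c) :
    dm A (m' ≫ m) = (m'.hom.left ≫ dm A m) * dm A m' := by
  refine diff_eq A _ ?_
  rw [mul_smul, show smul A (dm A m') (pt A a) = m'.hom.left ≫ pt A b from diff_smul A _, ← comp_smul,
    show smul A (dm A m) (pt A b) = m.hom.left ≫ pt A c from diff_smul A _]
  exact (Category.assoc _ _ _).symm

lemma datum_lift {w' w : (Stk.sieveCat (secSieve A)).obj} (m : w' ⟶ w) :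
    𝒳.p.IsHomLift m.hom.left (ρ r (dm A m) ≫ x.map (om m.hom.left)) :=
  GerbeLib.isHomLift_id_comp 𝒳.p _ _ _ (ρ_lift r _) (x_lift m.hom.left)

/-- The descent datum of a torsor. -/
def datum : Stk.sieveCat (secSieve A) ⥤ᵇ 𝒳 where
  toFunctor :=
    { obj := fun w => x.obj (o w.obj.left)
      map := fun m => ρ r (dm A m) ≫ x.map (om m.hom.left)
      map_id := fun w => by
        rw [dm_id, ρ_one, Category.id_comp]
        exact x_id _
      map_comp := fun {a b c} m' m => by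
        rw [show (m' ≫ m).hom.left = m'.hom.left ≫ m.hom.left from rfl, dm_comp, ρ_mul, x_comp,
          Category.assoc, ← Category.assoc (ρ r (m'.hom.left ≫ dm A m)), ρ_natural]
        simp only [Category.assoc] }
  w := CategoryTheory.Functor.ext (fun w => x.w_obj _) (fun a b m => by
    haveI := datum_lift r A m
    exact IsHomLift.fac' 𝒳.p m.hom.left _)

end Datum

/-- A stack has cocones on its descent data. -/
theorem exists_cocone {C : Type*} [Category C] {J : GrothendieckTopology C} {ℱ : BasedCategory C}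
    (h : Stk.IsStack J ℱ) {U : C} {R : Sieve U} (hR : R ∈ J U) (K : Stk.sieveCat R ⥤ᵇ ℱ) :
    Nonempty (SpTorsLib.Cocone K) := by
  haveI : (Stk.resSieve R ℱ).IsEquivalence := h.2 R hR
  let H := (Stk.resSieve R ℱ).objPreimage K
  let α : BasedFunctor.comp (Stk.sieveIncl R) H ≅ K := (Stk.resSieve R ℱ).objObjPreimageIso K
  refine ⟨⟨(SpTorsLib.coconeOf (R := R) H).pt, (SpTorsLib.coconeOf (R := R) H).pt_base,
    fun a => α.inv.toNatTrans.app a ≫ (SpTorsLib.coconeOf (R := R) H).leg a, fun a => ?_, fun a b m => ?_⟩⟩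
  · exact GerbeLib.isHomLift_id_comp ℱ.p _ _ _ (α.inv.isHomLift' a)
      ((SpTorsLib.coconeOf (R := R) H).leg_lift a)
  · rw [← (SpTorsLib.coconeOf (R := R) H).leg_nat a b m]
    exact α.inv.toNatTrans.naturality_assoc m _

/-- A point over its arrow. -/
abbrev wOf {V : Over S} (p : V ⟶ A.P) : (Stk.sieveCat (secSieve A)).obj := ⟨Over.mk (p ≫ A.π), p, rfl⟩

theorem exists_tw (h : Stk.IsStack (AlgSp.J S) 𝒳) : Nonempty (Tw r A) := by
  obtain ⟨⟨y, hy, leg, hleg, hnat⟩⟩ := exists_cocone h (secSieve_mem A) (datum r A)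
  have hp : ∀ {V : Over S} (p : V ⟶ A.P), p ≫ A.π = pt A (wOf A p) ≫ A.π := fun p => (pt_π A (wOf A p)).symm
  let σ : ∀ {V : Over S}, (V ⟶ A.P) → (x.obj (o V) ⟶ y) :=
    fun {V} p => ρ r (diff A (hp p))⁻¹ ≫ leg (wOf A p)
  refine ⟨⟨y, hy, σ, fun {V} p => ?_, fun {V' V} m p => ?_, fun {V} g p => ?_⟩⟩
  · exact GerbeLib.isHomLift_id_comp 𝒳.p _ _ _ (ρ_lift r _) (hleg (wOf A p))
  · let mm : wOf A (m ≫ p) ⟶ wOf A p := ObjectProperty.homMk (Over.homMk m (Category.assoc _ _ _).symm)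
    set g := diff A (hp p) with hg
    have e : leg (wOf A (m ≫ p)) = (ρ r (dm A mm) ≫ x.map (om m)) ≫ leg (wOf A p) := (hnat _ _ mm).symm
    have hd : diff A (hp (m ≫ p)) = (show V' ⟶ G from m ≫ g) * (show V' ⟶ G from dm A mm) := by
      refine diff_eq A _ ?_
      rw [mul_smul, show smul A (dm A mm) (pt A (wOf A (m ≫ p))) = m ≫ pt A (wOf A p) from diff_smul A _,
        ← comp_smul, hg, diff_smul]
    show x.map (om m) ≫ ρ r g⁻¹ ≫ leg (wOf A p) = ρ r (diff A (hp (m ≫ p)))⁻¹ ≫ leg (wOf A (m ≫ p))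
    rw [hd, e, _root_.mul_inv_rev, ρ_mul, ← Category.assoc, ← ρ_natural, GrpObj.comp_inv]
    simp only [Category.assoc]
    rw [← Category.assoc (ρ r (dm A mm)⁻¹), ρ_inv, Category.id_comp]
  · have key : ∀ (f : V ⟶ A.base) (q : V ⟶ A.P) (hq : q ≫ A.π = f) (hf : (secSieve A).arrows f)
        (e : q ≫ A.π = pt A ⟨Over.mk f, hf⟩ ≫ A.π),
        σ q = ρ r (diff A e)⁻¹ ≫ leg ⟨Over.mk f, hf⟩ := by
      intro f q hq hf e
      subst hq
      rfl
    have e : smul A g p ≫ A.π = pt A (wOf A p) ≫ A.π := (smul_π A g p).trans (hp p)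
    rw [key (p ≫ A.π) (smul A g p) (smul_π A g p) ⟨p, rfl⟩ e]
    have hd : diff A e = g * diff A (hp p) := diff_eq A _ (by rw [mul_smul, diff_smul])
    rw [hd, _root_.mul_inv_rev, ρ_mul, Category.assoc]

variable {r A}

namespace Tw

variable (F : Tw r A)

lemma isCart [IsFibGrpd 𝒳.p] {V : Over S} (p : V ⟶ A.P) : 𝒳.p.IsStronglyCartesian (p ≫ A.π) (F.σ p) :=
  haveI := F.σ_lift p
  FibLib.isStronglyCartesian_of_isFibGrpd (p := 𝒳.p) _ _

lemma ρ_σ_smul {V : Over S} (g : V ⟶ G) (p : V ⟶ A.P) : ρ r g ≫ F.σ (smul A g p) = F.σ p := by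
  rw [F.σ_smul, ← Category.assoc, ρ_inv', Category.id_comp]

lemma σ_injective [IsFibGrpd 𝒳.p] {V : Over S} {p q : V ⟶ A.P} (h : p ≫ A.π = q ≫ A.π) (e : F.σ p = F.σ q) :
    p = q := by
  have hd := diff_smul A h
  have e' : ρ r (diff A h)⁻¹ ≫ F.σ q = 𝟙 _ ≫ F.σ q := by rw [← F.σ_smul, hd, e, Category.id_comp]
  haveI := F.isCart q
  haveI : 𝒳.p.IsHomLift (𝟙 V) (ρ r (diff A h)⁻¹) := ρ_lift r _
  haveI : 𝒳.p.IsHomLift (𝟙 V) (𝟙 (x.obj (o V))) := IsHomLift.id (x.w_obj _)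
  have : ρ r (diff A h)⁻¹ = ρ r 1 :=
    (IsStronglyCartesian.ext 𝒳.p (q ≫ A.π) (F.σ q) (𝟙 V) e').trans (ρ_one r).symm
  rw [← hd, inv_eq_one.1 (ρ_injective r this), one_smul]

lemma exists_pt_of_sec [IsFibGrpd 𝒳.p] {V : Over S} (f : V ⟶ A.base) (hf : (secSieve A).arrows f)
    (t : x.obj (o V) ⟶ F.y) (ht : 𝒳.p.IsHomLift f t) : ∃ p : V ⟶ A.P, p ≫ A.π = f ∧ F.σ p = t := by
  obtain ⟨q, rfl⟩ := hf
  obtain ⟨i, hi, hi'⟩ := GerbeLib.exists_vert 𝒳.p _ t (F.σ q) ht (F.σ_lift q)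
  haveI := hi
  obtain ⟨g, hg⟩ := ρ_surjective r i.hom
  refine ⟨smul A g⁻¹ q, smul_π A _ q, ?_⟩
  rw [F.σ_smul, _root_.inv_inv, hg, hi']

/-- Every frame is the frame of a point. -/
theorem exists_pt [IsFibGrpd 𝒳.p] {V : Over S} (f : V ⟶ A.base) (t : x.obj (o V) ⟶ F.y)
    (ht : 𝒳.p.IsHomLift f t) : ∃ p : V ⟶ A.P, p ≫ A.π = f ∧ F.σ p = t := by
  have hl : ∀ ⦃W : Over S⦄ (m : W ⟶ V), 𝒳.p.IsHomLift (m ≫ f) (x.map (om m) ≫ t) := fun W m => by
    haveI := x_lift (x := x) m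
    haveI := ht
    infer_instance
  choose q hq₁ hq₂ using fun (W : Over S) (m : W ⟶ V) (hm : ((secSieve A).pullback f).arrows m) =>
    F.exists_pt_of_sec (m ≫ f) hm _ (hl m)
  have hsh : Presieve.IsSheaf (AlgSp.J S) (yoneda.obj A.P) :=
    GrothendieckTopology.Subcanonical.isSheaf_of_isRepresentable _
  have hR : (secSieve A).pullback f ∈ AlgSp.J S V := (AlgSp.J S).pullback_stable f (secSieve_mem A)
  let fam : Presieve.FamilyOfElements (yoneda.obj A.P) ((secSieve A).pullback f).arrows := fun W m hm => q W m hm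
  have hc : fam.Compatible := by
    intro W₁ W₂ Z g₁ g₂ m₁ m₂ h₁ h₂ e
    show g₁ ≫ q W₁ m₁ h₁ = g₂ ≫ q W₂ m₂ h₂
    refine F.σ_injective ?_ ?_
    · rw [Category.assoc, hq₁, Category.assoc, hq₁, ← Category.assoc, e, Category.assoc]
    · rw [← F.σ_comp, ← F.σ_comp, hq₂, hq₂, ← Category.assoc, ← Category.assoc, ← x_comp, ← x_comp, e]
  have hq := hsh _ hR
  refine ⟨hq.amalgamate fam hc, ?_, ?_⟩
  · refine ((GrothendieckTopology.Subcanonical.isSheaf_of_isRepresentable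
      (J := AlgSp.J S) (yoneda.obj A.base)) _ hR).isSeparatedFor.ext fun W m hm => ?_
    show m ≫ (hq.amalgamate fam hc) ≫ A.π = m ≫ f
    rw [← Category.assoc, show m ≫ hq.amalgamate fam hc = fam m hm from hq.valid_glue hc m hm]
    exact hq₁ W m hm
  · have hπ : hq.amalgamate fam hc ≫ A.π = f := by
      refine ((GrothendieckTopology.Subcanonical.isSheaf_of_isRepresentable
        (J := AlgSp.J S) (yoneda.obj A.base)) _ hR).isSeparatedFor.ext fun W m hm => ?_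
      show m ≫ (hq.amalgamate fam hc) ≫ A.π = m ≫ f
      rw [← Category.assoc, show m ≫ hq.amalgamate fam hc = fam m hm from hq.valid_glue hc m hm]
      exact hq₁ W m hm
    set P := hq.amalgamate fam hc with hP
    haveI : 𝒳.p.IsHomLift f (F.σ P) := hπ ▸ F.σ_lift P
    obtain ⟨i, hi, hi'⟩ := GerbeLib.exists_vert 𝒳.p f t (F.σ P) ht inferInstance
    haveI := hi
    obtain ⟨g, hg⟩ := ρ_surjective r i.hom
    have hg1 : g = 1 := by
      refine ((GrothendieckTopology.Subcanonical.isSheaf_of_isRepresentable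
        (J := AlgSp.J S) (yoneda.obj G)) _ hR).isSeparatedFor.ext fun W m hm => ?_
      show m ≫ g = m ≫ 1
      have e2 : ρ r (m ≫ g) ≫ F.σ (m ≫ P) = 𝟙 _ ≫ F.σ (m ≫ P) := by
        rw [Category.id_comp, ← F.σ_comp, ← Category.assoc, ρ_natural, Category.assoc, hg, hi', ← hq₂ W m hm,
          F.σ_comp, show m ≫ P = q W m hm from hq.valid_glue hc m hm]
      haveI := F.isCart (m ≫ P)
      haveI : 𝒳.p.IsHomLift (𝟙 W) (ρ r (m ≫ g)) := ρ_lift r _
      haveI : 𝒳.p.IsHomLift (𝟙 W) (𝟙 (x.obj (o W))) := IsHomLift.id (x.w_obj _)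
      rw [MonObj.comp_one]
      exact ρ_injective r ((IsStronglyCartesian.ext 𝒳.p ((m ≫ P) ≫ A.π) (F.σ (m ≫ P)) (𝟙 W) e2).trans
        (ρ_one r).symm)
    rw [← hi', ← hg, hg1, ρ_one, Category.id_comp]

/-- Morphisms of torsors act on twisted objects. -/
def Comp {A' : AlgSt.QuotObj Scheme.fppfPrecoverage G aX} (F' : Tw r A') (a : A ⟶ A') (δ : F.y ⟶ F'.y) : Prop :=
  𝒳.p.IsHomLift a.base δ ∧ ∀ {V : Over S} (p : V ⟶ A.P), F.σ p ≫ δ = F'.σ (p ≫ a.top)

lemma top_π {A A' : AlgSt.QuotObj Scheme.fppfPrecoverage G aX} (a : A ⟶ A') {V : Over S} (p : V ⟶ A.P) :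
    (p ≫ a.top) ≫ A'.π = (p ≫ A.π) ≫ a.base := by
  rw [Category.assoc, Category.assoc, a.cart.w]

lemma smul_top {A A' : AlgSt.QuotObj Scheme.fppfPrecoverage G aX} (a : A ⟶ A') {V : Over S} (g : V ⟶ G)
    (p : V ⟶ A.P) : smul A g p ≫ a.top = smul A' g (p ≫ a.top) := by
  simp only [smul, Category.assoc]
  rw [a.eqv, ← Category.assoc, lift_whiskerLeft]

theorem comp_unique (h : Stk.IsPrestack (AlgSp.J S) 𝒳) {A' : AlgSt.QuotObj Scheme.fppfPrecoverage G aX}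
    (F' : Tw r A') (a : A ⟶ A') {δ δ' : F.y ⟶ F'.y} (hδ : F.Comp F' a δ) (hδ' : F.Comp F' a δ') : δ = δ' := by
  haveI := h.1
  obtain ⟨i, hi, hi'⟩ := GerbeLib.exists_vert 𝒳.p a.base δ δ' hδ.1 hδ'.1
  haveI := hi
  haveI : 𝒳.p.IsHomLift (𝟙 A.base) (𝟙 F.y) := IsHomLift.id F.y_base
  have e : i.hom = 𝟙 F.y := by
    refine StkTopLib.vert_ext h i.hom (𝟙 F.y) (secSieve_mem A) fun V f hf => ?_
    obtain ⟨p, rfl⟩ := hf
    refine ⟨_, F.σ p, F.σ_lift p, ?_⟩
    have e1 : (F.σ p ≫ i.hom) ≫ δ' = (F.σ p ≫ 𝟙 _) ≫ δ' := by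
      rw [Category.assoc, hi', Category.comp_id, hδ.2, hδ'.2]
    haveI := hδ'.1
    haveI : 𝒳.p.IsStronglyCartesian a.base δ' := FibLib.isStronglyCartesian_of_isFibGrpd (p := 𝒳.p) _ _
    haveI := F.σ_lift p
    exact IsStronglyCartesian.ext 𝒳.p a.base δ' (p ≫ A.π) e1
  rw [← hi', e, Category.id_comp]

theorem exists_comp (h : Stk.IsPrestack (AlgSp.J S) 𝒳) {A' : AlgSt.QuotObj Scheme.fppfPrecoverage G aX}
    (F' : Tw r A') (a : A ⟶ A') : ∃ δ : F.y ⟶ F'.y, F.Comp F' a δ := by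
  haveI := h.1
  obtain ⟨b, φ, hφ⟩ := FibLib.exists_lift 𝒳.p (a := F'.y) F'.y_base a.base
  haveI := hφ
  haveI : 𝒳.p.IsStronglyCartesian a.base φ := FibLib.isStronglyCartesian_of_isFibGrpd (p := 𝒳.p) _ _
  have ex : ∀ {V : Over S} (p : V ⟶ A.P), ∃ t : x.obj (o V) ⟶ b,
      𝒳.p.IsHomLift (p ≫ A.π) t ∧ t ≫ φ = F'.σ (p ≫ a.top) := by
    intro V p
    haveI := F'.σ_lift (p ≫ a.top)
    exact ⟨IsStronglyCartesian.map 𝒳.p a.base φ (top_π a p) (F'.σ (p ≫ a.top)), inferInstance,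
      IsStronglyCartesian.fac 𝒳.p a.base φ (top_π a p) _⟩
  choose t ht ht' using @ex
  have t_ext : ∀ {V : Over S} (p : V ⟶ A.P) (s : x.obj (o V) ⟶ b), 𝒳.p.IsHomLift (p ≫ A.π) s →
      s ≫ φ = F'.σ (p ≫ a.top) → s = t p := fun {V} p s hs e => by
    haveI := hs
    haveI := ht p
    exact IsStronglyCartesian.ext 𝒳.p a.base φ (p ≫ A.π) (e.trans (ht' p).symm)
  have t_comp : ∀ {V' V : Over S} (m : V' ⟶ V) (p : V ⟶ A.P), x.map (om m) ≫ t p = t (m ≫ p) := fun {V' V} m p => by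
    refine t_ext _ _ ?_ (by rw [Category.assoc, ht', F'.σ_comp, Category.assoc])
    haveI := x_lift (x := x) m
    haveI := ht p
    rw [Category.assoc]
    infer_instance
  have t_smul : ∀ {V : Over S} (g : V ⟶ G) (p : V ⟶ A.P), ρ r g ≫ t (smul A g p) = t p := fun {V} g p => by
    refine t_ext _ _ ?_ (by rw [Category.assoc, ht', smul_top, ρ_σ_smul])
    exact GerbeLib.isHomLift_id_comp 𝒳.p _ _ _ (ρ_lift r g) (smul_π A g p ▸ ht _)
  choose p hp using fun (V : Over S) (f : V ⟶ A.base) (hf : (secSieve A).arrows f) => hf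
  choose i hi hi' using fun (V : Over S) (z : 𝒳.obj) (f : V ⟶ A.base) (hf : (secSieve A).arrows f) (χ : z ⟶ F.y)
    (hχ : 𝒳.p.IsHomLift f χ) => GerbeLib.exists_vert 𝒳.p f χ (F.σ (p V f hf)) hχ (by have := F.σ_lift (p V f hf); rwa [hp V f hf] at this)
  have key : ∀ {V : Over S} {z : 𝒳.obj} (f : V ⟶ A.base) (hf : (secSieve A).arrows f) (χ : z ⟶ F.y)
      (hχ : 𝒳.p.IsHomLift f χ) (q : V ⟶ A.P) (hq : q ≫ A.π = f) (j : z ⟶ x.obj (o V))
      (hj : 𝒳.p.IsHomLift (𝟙 V) j) (hj' : j ≫ F.σ q = χ),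
      (i V z f hf χ hχ).hom ≫ t (p V f hf) = j ≫ t q := by
    intro V z f hf χ hχ q hq j hj hj'
    have e : p V f hf ≫ A.π = q ≫ A.π := (hp V f hf).trans hq.symm
    have hd := diff_smul A e
    haveI := hi V z f hf χ hχ
    haveI := hj
    have e1 : (i V z f hf χ hχ).hom = j ≫ ρ r (diff A e) := by
      haveI := F.isCart (p V f hf)
      haveI : 𝒳.p.IsHomLift (𝟙 V) (j ≫ ρ r (diff A e)) :=
        GerbeLib.isHomLift_comp_id 𝒳.p _ _ _ hj (ρ_lift r _)
      refine IsStronglyCartesian.ext 𝒳.p (p V f hf ≫ A.π) (F.σ (p V f hf)) (𝟙 V) ?_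
      rw [hi', ← hj', Category.assoc]
      exact (congrArg (j ≫ ·) ((congrArg (fun s => ρ r (diff A e) ≫ F.σ s) hd.symm).trans
        (F.ρ_σ_smul _ q))).symm
    rw [e1, Category.assoc]
    exact congrArg (j ≫ ·) ((congrArg (fun s => ρ r (diff A e) ≫ t s) hd.symm).trans (t_smul _ q))
  obtain ⟨δ, hδ, eδ⟩ := GerbeLib.vert_glue h F.y_base (IsHomLift.domain_eq 𝒳.p a.base φ) (secSieve_mem A)
    (fun V z f hf χ hχ => (i V z f hf χ hχ).hom ≫ t (p V f hf))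
    (fun V z f hf χ hχ => GerbeLib.isHomLift_id_comp 𝒳.p _ _ _ (hi V z f hf χ hχ) (by have := ht (p V f hf); rwa [hp V f hf] at this))
    (fun V W z z' g f f' hf hf' e χ₀ hχ₀ χ hχ χ' hχ' eχ => by
      obtain ⟨j, hj, hj'⟩ := GerbeLib.exists_vert 𝒳.p f' χ' (F.σ (g ≫ p V f hf)) hχ'
        (by have := F.σ_lift (g ≫ p V f hf); rwa [Category.assoc, hp V f hf, e] at this)
      haveI := hj
      rw [key f' hf' χ' hχ' (g ≫ p V f hf) (by rw [Category.assoc, hp, e]) j.hom hj hj', ← t_comp,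
        ← Category.assoc, ← Category.assoc]
      congr 1
      haveI := hi V z f hf χ₀ hχ₀
      haveI := hχ
      haveI := x_lift (x := x) g
      haveI : 𝒳.p.IsHomLift g (j.hom ≫ x.map (om g)) := GerbeLib.isHomLift_id_comp 𝒳.p _ _ _ hj inferInstance
      haveI : 𝒳.p.IsHomLift g (χ ≫ (i V z f hf χ₀ hχ₀).hom) :=
        GerbeLib.isHomLift_comp_id 𝒳.p _ _ _ hχ (hi V z f hf χ₀ hχ₀)
      haveI := F.isCart (p V f hf)
      refine IsStronglyCartesian.ext 𝒳.p (p V f hf ≫ A.π) (F.σ (p V f hf)) g ?_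
      rw [Category.assoc, F.σ_comp, hj', Category.assoc, hi', eχ])
  haveI := hδ
  refine ⟨δ ≫ φ, GerbeLib.isHomLift_id_comp 𝒳.p _ _ _ hδ hφ, fun {V} q => ?_⟩
  rw [← Category.assoc, eδ (q ≫ A.π) ⟨q, rfl⟩ (F.σ q) (F.σ_lift q),
    key (q ≫ A.π) ⟨q, rfl⟩ (F.σ q) (F.σ_lift q) q rfl (𝟙 _) (IsHomLift.id (x.w_obj _)) (Category.id_comp _),
    Category.id_comp, ht']

end Tw

end BGStackLib
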