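import Groth.Agent.BGStackLib.Equiv
import Groth.Agent.AlgStSetoidLib.Mono
import Groth.Agent.ResGerbeLib.Basic
import Groth.Agent.QuotStLib.MapRep
import Groth.Agent.AlgStLib.LocQ6

/-!
# The classifying stack of a stabilizer is a substack
-/

set_option autoImplicit false
set_option linter.all false
set_option backward.isDefEq.respectTransparency false
set_option backward.isDefEq.respectTransparency.types false

universe u

open CategoryTheory CategoryTheory.Limits MonoidalCategory CartesianMonoidalCategory AlgebraicGeometry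
open Opposite MonObj GrpObj FibCat FibLib AlgStLib Gerb AlgSp AlgSpLib
open CategoryTheory.Functor (Fiber IsStronglyCartesian)

noncomputable section

namespace BGStackLib

variable {S : Scheme.{u}} {G : Over S} [GrpObj G] [IsAffineHom G.hom] [Flat G.hom]
  [LocallyOfFinitePresentation G.hom] {𝒳 : AlgSt.Cat S} {x : overCat (Over.mk (𝟙 S)) ⥤ᵇ 𝒳}
  (r : Gerb.AutRep x (Gerb.ptsGrp (Over.mk (𝟙 S)) G))

theorem repByAlgSp1_twFun (h𝒳 : AlgSt.IsAlgStack Scheme.fppfPrecoverage 𝒳) :
    AlgSt.RepByAlgSp1 (twFun r h𝒳.isStack) := by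
  intro U u
  haveI := h𝒳.isStack.1
  haveI : IsFibGrpd (AlgSt.BG Scheme.fppfPrecoverage G).p := QuotTransLib.isFibGrpd
  let qm := QuotStLib.qm Scheme.fppfPrecoverage (AlgSt.trivAction G)
  let ι' := twFun r h𝒳.isStack
  haveI : IsFibGrpd (fp u ι').p := isFibGrpd_fp
  have hst : Stk.IsStack (AlgSp.J S) (fp u ι') :=
    AlgStLib.isStack_fp (isStack_of_repByAlgSp (repByAlgSp_overCat U)) QuotTransLib.isStack_quotSt
      (AlgStLib.isPrestack_of_isStack h𝒳.isStack)
  have hset : IsFibSetoid (fp u ι').p :=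
    AlgStSetoidLib.isFibSetoid_fp_of_faithful (isFibSetoid_of_repByAlgSp (repByAlgSp_overCat U)) u ι' 
  have h0 : AlgSt.RepByAlgSp (fp u (BasedFunctor.comp qm ι')) := by
    obtain ⟨ie⟩ := nonempty_quotMap_iso r h𝒳.isStack
    exact AlgStLib.RepByAlgSp.of_equivTo
      (equivTo_fp_congr (Iso.refl u) (whiskerLeftIso' (AlgSt.ofOverCat (𝟙_ (Over S))) ie).symm)
      (ResGerbeLib.repByAlgSp1_overCat h𝒳 _ U u)
  have hU : AlgSt.RepByAlgSp (fp (fpSnd u ι') qm) :=
    AlgStLib.RepByAlgSp.of_equivTo ⟨_, FibLib.isEquivOver_fpCompRight u qm ι'⟩ h0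
  haveI : IsFibGrpd (overCat (𝟙_ (Over S))).p := (isFibSetoid_of_repByAlgSp (repByAlgSp_overCat _)).1
  exact AlgStSetoidLib.repByAlgSp_of_setoid_cover hst hset hU (fpFst (fpSnd u ι') qm)
    (AlgStLib.repByAlgSpWith_fpFst _ _
      (QuotStLib.repByAlgSpWith_qm _ @Flat (isLocalOnBase_fppf_flat) inferInstance))
    (AlgStLib.repByAlgSpWith_fpFst _ _
      (QuotStLib.repByAlgSpWith_qm _ @LocallyOfFinitePresentation (isLocalOnBase_fppf_lfp) inferInstance))
    (AlgStLib.repByAlgSpWith_fpFst _ _ (QuotStLib.repByAlgSpWith_qm_surjective _))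

theorem isMono_twFun (h𝒳 : AlgSt.IsAlgStack Scheme.fppfPrecoverage 𝒳) :
    AlgSt.IsMono (twFun r h𝒳.isStack) := by
  haveI := h𝒳.isStack.1
  haveI : IsFibGrpd (AlgSt.BG Scheme.fppfPrecoverage G).p := QuotTransLib.isFibGrpd
  refine AlgStLib.repByAlgSpWith_of_forall (repByAlgSp1_twFun r h𝒳) fun U u H a hH ha => ?_
  have hi := AlgStSetoidLib.injective_of_along (twFun r h𝒳.isStack) ha
  haveI : ∀ T, Mono (a.hom.app T) := fun T => (CategoryTheory.mono_iff_injective _).mpr (hi T)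
  haveI : Mono a.hom := NatTrans.mono_of_mono_app a.hom
  exact (sheafToPresheaf (AlgSp.J S) (Type (u + 1))).mono_of_mono_map ‹Mono a.hom›

end BGStackLib
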