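import Groth.Agent.QuotStLib.Torsor
import Groth.Agent.GerbeLib.Glue
import Groth.Agent.SpTorsLib.Criterion

/-!
# Torsors and automorphisms of a global object of a stack
-/

set_option autoImplicit false
set_option linter.all false
set_option backward.isDefEq.respectTransparency false
set_option backward.isDefEq.respectTransparency.types false

universe u

open CategoryTheory CategoryTheory.Limits MonoidalCategory CartesianMonoidalCategory AlgebraicGeometry
open Opposite MonObj GrpObj FibCat FibLib AlgStLib Gerb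
open CategoryTheory.Functor (Fiber IsStronglyCartesian)

noncomputable section

namespace BGStackLib

variable {S : Scheme.{u}}

lemma lift_id_congr {P C : Type*} [Category P] [Category C] {p : P ⥤ C} {T T' : C} (h : T = T')
    {a b : P} {φ : a ⟶ b} (hφ : p.IsHomLift (𝟙 T) φ) : p.IsHomLift (𝟙 T') φ := by
  subst h; exact hφ

/-- A scheme over the base, as an object over the terminal one. -/
abbrev o (V : Over S) : Over (Over.mk (𝟙 S)) := Over.mk (Over.homMk V.hom (Category.comp_id _) : V ⟶ Over.mk (𝟙 S))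

/-- A morphism of schemes over the base, over the terminal one. -/
abbrev om {V' V : Over S} (m : V' ⟶ V) : o V' ⟶ o V :=
  Over.homMk m (Over.OverMorphism.ext (Over.w m))

lemma om_id (V : Over S) : om (𝟙 V) = 𝟙 (o V) := Over.OverMorphism.ext rfl

lemma om_comp {V'' V' V : Over S} (m' : V'' ⟶ V') (m : V' ⟶ V) : om (m' ≫ m) = om m' ≫ om m :=
  Over.OverMorphism.ext rfl

variable {G : Over S} [GrpObj G] {X : Over S} {aX : AlgGrp.Action G X}

/-- The action on points. -/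
abbrev smul (A : AlgSt.QuotObj Scheme.fppfPrecoverage G aX) {V : Over S} (g : V ⟶ G) (p : V ⟶ A.P) : V ⟶ A.P :=
  lift g p ≫ A.act.act

variable (A : AlgSt.QuotObj Scheme.fppfPrecoverage G aX) {V V' : Over S}

lemma one_smul (p : V ⟶ A.P) : smul A (1 : V ⟶ G) p = p := QuotStLib.act_one A.act p

lemma mul_smul (g h : V ⟶ G) (p : V ⟶ A.P) : smul A (g * h) p = smul A g (smul A h p) :=
  QuotStLib.act_mul A.act g h p

lemma comp_smul (m : V' ⟶ V) (g : V ⟶ G) (p : V ⟶ A.P) : m ≫ smul A g p = smul A (m ≫ g) (m ≫ p) := by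
  rw [smul, ← Category.assoc, comp_lift]

lemma smul_π (g : V ⟶ G) (p : V ⟶ A.P) : smul A g p ≫ A.π = p ≫ A.π := by
  rw [smul, Category.assoc, A.cart.w, lift_snd_assoc]

lemma exists_smul {p q : V ⟶ A.P} (h : p ≫ A.π = q ≫ A.π) : ∃ g : V ⟶ G, smul A g q = p := by
  refine ⟨A.cart.lift p q h ≫ fst G A.P, ?_⟩
  have e : lift (A.cart.lift p q h ≫ fst G A.P) q = A.cart.lift p q h :=
    CartesianMonoidalCategory.hom_ext _ _ (lift_fst _ _) ((lift_snd _ _).trans (A.cart.lift_snd p q h).symm)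
  rw [smul, e]
  exact A.cart.lift_fst p q h

lemma smul_right_cancel {g g' : V ⟶ G} {p : V ⟶ A.P} (h : smul A g p = smul A g' p) : g = g' := by
  have e : lift g p = lift g' p := A.cart.hom_ext h ((lift_snd _ _).trans (lift_snd _ _).symm)
  simpa using congrArg (· ≫ fst G A.P) e

/-- The element carrying the second point to the first. -/
def diff {p q : V ⟶ A.P} (h : p ≫ A.π = q ≫ A.π) : V ⟶ G := (exists_smul A h).choose

lemma diff_smul {p q : V ⟶ A.P} (h : p ≫ A.π = q ≫ A.π) : smul A (diff A h) q = p := (exists_smul A h).choose_spec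

lemma diff_eq {p q : V ⟶ A.P} (h : p ≫ A.π = q ≫ A.π) {g : V ⟶ G} (e : smul A g q = p) : diff A h = g :=
  smul_right_cancel A ((diff_smul A h).trans e.symm)

/-- The sieve of the base on which the torsor has points. -/
def secSieve : Sieve A.base where
  arrows W f := ∃ p : W ⟶ A.P, p ≫ A.π = f
  downward_closed := fun {Y Z f} hf g => by
    obtain ⟨p, rfl⟩ := hf
    exact ⟨g ≫ p, Category.assoc _ _ _⟩

lemma secSieve_mem : secSieve A ∈ AlgSp.J S A.base := by
  rw [GrothendieckTopology.mem_over_iff]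
  obtain ⟨R, hR, hs⟩ := A.loc
  refine (Scheme.fppfPrecoverage.toGrothendieck).superset_covering ?_
    (Precoverage.generate_mem_toGrothendieck hR)
  rintro W g ⟨Z, h, f, hf, rfl⟩
  obtain ⟨s, hs'⟩ := hs f hf
  have hs'' : s ≫ A.π.left = f := hs'
  refine (Sieve.overEquiv_iff _ _).2 ⟨Over.homMk (h ≫ s) ?_, Over.OverMorphism.ext ?_⟩
  · show (h ≫ s) ≫ A.P.hom = (h ≫ f) ≫ A.base.hom
    rw [← hs'', Category.assoc, Category.assoc, Category.assoc, Over.w A.π]
  · show (h ≫ s) ≫ A.π.left = h ≫ f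
    rw [Category.assoc, hs'']

section Rep

variable {𝒳 : AlgSt.Cat S} {x : overCat (Over.mk (𝟙 S)) ⥤ᵇ 𝒳} (r : Gerb.AutRep x (Gerb.ptsGrp (Over.mk (𝟙 S)) G))

/-- The automorphism of a point of the group. -/
def ρ {V : Over S} (g : V ⟶ G) : x.obj (o V) ⟶ x.obj (o V) := (r.iso (o V) g).hom.1

lemma ρ_lift {V : Over S} (g : V ⟶ G) : 𝒳.p.IsHomLift (𝟙 V) (ρ r g) :=
  lift_id_congr (x.w_obj _) (r.iso (o V) g).hom.2

lemma ρ_mul {V : Over S} (g h : V ⟶ G) : ρ r (g * h) = ρ r h ≫ ρ r g := by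
  change (r.iso (o V) (g * h)).hom.1 = _
  rw [map_mul]
  rfl

lemma ρ_one {V : Over S} : ρ r (1 : V ⟶ G) = 𝟙 _ := by
  change (r.iso (o V) 1).hom.1 = _
  rw [map_one]
  rfl

lemma ρ_natural {V' V : Over S} (m : V' ⟶ V) (g : V ⟶ G) : ρ r (m ≫ g) ≫ x.map (om m) = x.map (om m) ≫ ρ r g :=
  r.natural (om m) g

lemma ρ_inv {V : Over S} (g : V ⟶ G) : ρ r g⁻¹ ≫ ρ r g = 𝟙 _ := by rw [← ρ_mul, mul_inv_cancel, ρ_one]

lemma ρ_inv' {V : Over S} (g : V ⟶ G) : ρ r g ≫ ρ r g⁻¹ = 𝟙 _ := by rw [← ρ_mul, inv_mul_cancel, ρ_one]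

lemma ρ_injective {V : Over S} {g h : V ⟶ G} (e : ρ r g = ρ r h) : g = h :=
  (r.iso (o V)).injective (Aut.ext (Fiber.hom_ext e))

lemma ρ_surjective {V : Over S} (i : x.obj (o V) ⟶ x.obj (o V)) [h : 𝒳.p.IsHomLift (𝟙 V) i] [IsFibGrpd 𝒳.p] :
    ∃ g : V ⟶ G, ρ r g = i := by
  haveI : IsIso i := FibLib.isIso_of_isHomLift 𝒳.p (𝟙 V) i
  have h' : 𝒳.p.IsHomLift (𝟙 (𝒳.p.obj (x.obj (o V)))) i :=
    lift_id_congr (x.w_obj (o V)).symm h
  obtain ⟨g, hg⟩ := (r.iso (o V)).surjective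
    (FibLib.fiberIso 𝒳.p (a := Gerb.fib (x.obj (o V))) (b := Gerb.fib (x.obj (o V))) (asIso i) h')
  exact ⟨g, congrArg (fun t => t.hom.1) hg⟩

lemma x_lift {V' V : Over S} (m : V' ⟶ V) : 𝒳.p.IsHomLift m (x.map (om m)) := FibLib.lift_map x (om m)

lemma x_comp {V'' V' V : Over S} (m' : V'' ⟶ V') (m : V' ⟶ V) :
    x.map (om (m' ≫ m)) = x.map (om m') ≫ x.map (om m) := by rw [om_comp]; exact x.toFunctor.map_comp _ _

lemma x_id (V : Over S) : x.map (om (𝟙 V)) = 𝟙 _ := by rw [om_id]; exact x.toFunctor.map_id _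

end Rep

end BGStackLib
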